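import Groth.Agent.PicF.K449.Deform1
import Groth.Agent.Grpsch.CubeTriv
import Groth.Agent.Pic13.H952.FibrePt
import Groth.Agent.Ega2.QCohLocal
import Groth.Agent.PicF.K248.Basic
import Groth.Agent.PicF.K245.DescUnit

/-!
# The seesaw argument with vanishing `H¹` of the structure sheaf of the fibres
-/

set_option autoImplicit false
universe u
open CategoryTheory CategoryTheory.Limits AlgebraicGeometry Opposite TopologicalSpace IsLocalRing

namespace K449.Seesaw1

open Groth.Agent Groth.Agent.Fdesc Groth.Agent.Fdesc.LocGen Groth.Agent.Grpsch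
open Groth.Agent.Grpsch.CubeData

lemma ker_appTop_specMap_maximalIdeal {A B : CommRingCat.{u}} [IsLocalRing A] (φ : A ⟶ B)
    (h : RingHom.ker φ.hom = maximalIdeal A) :
    RingHom.ker (Spec.map φ).appTop.hom = maximalIdeal Γ(Spec A, ⊤) := by
  have h1 := Scheme.ΓSpecIso_naturality φ
  ext x
  obtain ⟨a, rfl⟩ : ∃ b, (Scheme.ΓSpecIso A).inv.hom b = x :=
    ⟨(Scheme.ΓSpecIso A).hom.hom x, congr(($((Scheme.ΓSpecIso A).hom_inv_id)).hom x)⟩
  rw [mem_maximalIdeal_ΓSpec, ← h, RingHom.mem_ker, RingHom.mem_ker]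
  have h2 : (Spec.map φ).appTop.hom ((Scheme.ΓSpecIso A).inv.hom a) =
      (Scheme.ΓSpecIso B).inv.hom (φ.hom a) := congr(($(Scheme.ΓSpecIso_inv_naturality φ)).hom a).symm
  rw [h2]
  have hb : Function.Bijective (Scheme.ΓSpecIso B).inv.hom :=
    ConcreteCategory.bijective_of_isIso (Scheme.ΓSpecIso B).inv
  exact map_eq_zero_iff _ hb.1

/-- Lifting triviality along `Spec B ⟶ Spec A`, `B = A / (t)` with `Ann t = 𝔪`. -/
lemma triv_of_small_spec {A B K : CommRingCat.{u}} [IsLocalRing A] (φ : A ⟶ B)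
    (hφ : Function.Surjective φ.hom) (t : A) (ht : t ≠ 0) (htm : t ∈ maximalIdeal A)
    (hmt : ∀ a ∈ maximalIdeal A, a * t = 0) (hker : RingHom.ker φ.hom = Ideal.span {t})
    (ψ : A ⟶ K) (hψ : Function.Surjective ψ.hom) (hψk : RingHom.ker ψ.hom = maximalIdeal A)
    {P : Scheme.{u}} (p : P ⟶ Spec A) [Flat p] [IsSeparated p]
    (h1 : Subsingleton (Coh.HH (pullback p (Spec.map ψ)) (Coh.structureModule _) 1))
    (L : P.Modules) (hL : PicF.IsInvertible L)
    (hS' : Triv ((Scheme.Modules.pullback (pullback.fst p (Spec.map φ))).obj L)) :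
    Triv L := by
  have hci : IsClosedImmersion (Spec.map φ) := IsClosedImmersion.spec_of_surjective φ hφ
  have hci₀ : IsClosedImmersion (Spec.map ψ) := IsClosedImmersion.spec_of_surjective ψ hψ
  have hsurj : Surjective (Spec.map φ) := by
    have h1 : ∀ x : PrimeSpectrum A, x ∈ Set.range (PrimeSpectrum.comap φ.hom) := by
      intro x
      rw [range_comap_of_surjective _ _ hφ, hker, PrimeSpectrum.mem_zeroLocus,
        SetLike.coe_subset_coe, Ideal.span_singleton_le_iff_mem]
      exact x.isPrime.mem_of_pow_mem 2 (by rw [pow_two, hmt t htm]; exact zero_mem _)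
    exact ⟨h1⟩
  have hloc : IsLocalRing Γ(Spec A, ⊤) :=
    (Scheme.ΓSpecIso A).symm.commRingCatIsoToRingEquiv.isLocalRing
  rw [triv_iff]
  obtain ⟨ρ, hρ⟩ := triv_iff.mp hS'
  refine Deform1.deform (IsPullback.of_hasPullback p (Spec.map φ)) ((Scheme.ΓSpecIso A).inv.hom t)
    ?_ ?_ (ker_appTop_specMap φ t hker) (ker_appTop_specMap_maximalIdeal ψ hψk)
    (IsPullback.of_hasPullback p (Spec.map ψ)) h1 hL hρ
  · intro a
    obtain ⟨a, rfl⟩ : ∃ b, (Scheme.ΓSpecIso A).inv.hom b = a :=
      ⟨(Scheme.ΓSpecIso A).hom.hom a, congr(($((Scheme.ΓSpecIso A).hom_inv_id)).hom a)⟩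
    rw [mem_maximalIdeal_ΓSpec, ← map_mul]
    have hb : Function.Bijective (Scheme.ΓSpecIso A).inv.hom :=
      ConcreteCategory.bijective_of_isIso (Scheme.ΓSpecIso A).inv
    rw [map_eq_zero_iff _ hb.1]
    refine ⟨fun h0 => ?_, hmt a⟩
    by_contra hu
    rw [mem_maximalIdeal, mem_nonunits_iff, not_not] at hu
    exact ht ((hu.mul_right_eq_zero).mp h0)
  · rw [mem_maximalIdeal_ΓSpec]; exact htm

variable {X S : Scheme.{u}}

/-- `H¹` of the structure sheaf of the fibre over a field-valued point. -/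
lemma subsingleton_H1_point (f : X ⟶ S) [QuasiCompact f] [QuasiSeparated f]
    (h : ∀ s : S, Subsingleton (CohIII.fiberH f (Coh.structureModule X) s 1))
    {K : Type u} [Field K] {T : Scheme.{u}} (τ : T ⟶ S) (e : T ≅ Spec (CommRingCat.of K))
    {Y : Scheme.{u}} {j : Y ⟶ X} {q : Y ⟶ T} (H : IsPullback j q f τ) :
    Subsingleton (Coh.HH Y (Coh.structureModule Y) 1) := by
  let iY : Y.Over (Spec (CommRingCat.of K)) := ⟨q ≫ e.hom⟩
  have H' : IsPullback j (Y ↘ Spec (CommRingCat.of K)) f (e.inv ≫ τ) := by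
    refine H.of_iso (Iso.refl _) (Iso.refl _) e (Iso.refl _) ?_ ?_ ?_ ?_
    · simp
    · simp; rfl
    · simp
    · simp
  let y : S := (e.inv ≫ τ) (closedPoint K)
  have hq : Coh.IsQCoh (Coh.structureModule X) := Ega2.QCohLocal.isQCoh_structureModule X
  have h1 := Pic13.H952.FibrePt.subsingleton_HH f (e.inv ≫ τ) j H' y ⟨_, rfl⟩
    (Coh.structureModule X) hq 1 (h y)
  obtain ⟨i⟩ : Triv ((Scheme.Modules.pullback j).obj (Coh.structureModule X)) :=
    Triv.pullback j ⟨Iso.refl _⟩
  exact Fga.HShift.subsingleton_of_iso i 1 h1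

/-- Lifting triviality along `Spec (O / (I₁ + t)) ⟶ Spec (O / I₁)`. -/
lemma triv_of_quot (f : X ⟶ S) [IsProper f] [Flat f]
    (h : ∀ s : S, Subsingleton (CohIII.fiberH f (Coh.structureModule X) s 1)) (L : X.Modules)
    (hL : PicF.IsInvertible L)
    (O : CommRingCat.{u}) [IsLocalRing O] (b : Spec O ⟶ S) (I₁ : Ideal O) (t : O) (ht : t ∉ I₁)
    (htm : t ∈ maximalIdeal O) (hmt : ∀ a ∈ maximalIdeal O, a * t ∈ I₁)
    (hT : Triv ((Scheme.Modules.pullback (pullback.fst f
      (Spec.map (CommRingCat.ofHom (Ideal.Quotient.mk (I₁ ⊔ Ideal.span {t}))) ≫ b))).obj L)) :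
    Triv ((Scheme.Modules.pullback (pullback.fst f
      (Spec.map (CommRingCat.ofHom (Ideal.Quotient.mk I₁)) ≫ b))).obj L) := by
  have hne : I₁ ≠ ⊤ := fun h0 => ht (h0 ▸ Submodule.mem_top)
  have : Nontrivial (O ⧸ I₁) := Ideal.Quotient.nontrivial_iff.mpr hne
  have hloc : IsLocalRing (CommRingCat.of (O ⧸ I₁)) :=
    IsLocalRing.of_surjective' (Ideal.Quotient.mk I₁) Ideal.Quotient.mk_surjective
  let φ : CommRingCat.of (O ⧸ I₁) ⟶ CommRingCat.of (O ⧸ (I₁ ⊔ Ideal.span {t})) :=
    CommRingCat.ofHom (Ideal.Quotient.factor le_sup_left)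
  let a : Spec (CommRingCat.of (O ⧸ I₁)) ⟶ S :=
    Spec.map (CommRingCat.ofHom (Ideal.Quotient.mk I₁)) ≫ b
  have hφa : Spec.map φ ≫ a =
      Spec.map (CommRingCat.ofHom (Ideal.Quotient.mk (I₁ ⊔ Ideal.span {t}))) ≫ b := by
    rw [← Category.assoc, ← Spec.map_comp]
    rfl
  have hloc' : IsLocalHom (Ideal.Quotient.mk I₁) :=
    IsLocalHom.of_surjective _ Ideal.Quotient.mk_surjective
  let A : CommRingCat.{u} := CommRingCat.of (O ⧸ I₁)
  let _ : Field (A ⧸ maximalIdeal A) := Ideal.Quotient.field _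
  let ψ : A ⟶ CommRingCat.of (A ⧸ maximalIdeal A) := CommRingCat.ofHom (Ideal.Quotient.mk _)
  refine triv_of_small_spec φ (Ideal.Quotient.factor_surjective le_sup_left)
    (Ideal.Quotient.mk I₁ t) (fun h0 => ht (Ideal.Quotient.eq_zero_iff_mem.mp h0)) ?_ ?_ ?_
    ψ Ideal.Quotient.mk_surjective (Ideal.mk_ker) (pullback.snd f a) ?_
    ((Scheme.Modules.pullback (pullback.fst f a)).obj L)
    (isInvertible_pullback _ hL) ?_
  · exact (mem_maximalIdeal _).mpr fun hu =>
      (mem_maximalIdeal t).mp htm (isUnit_of_map_unit (Ideal.Quotient.mk I₁) t hu)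
  · intro c hc
    obtain ⟨c, rfl⟩ := Ideal.Quotient.mk_surjective c
    have h1 : c ∈ maximalIdeal O := (mem_maximalIdeal c).mpr fun hu =>
      (mem_maximalIdeal _).mp hc (hu.map (Ideal.Quotient.mk I₁))
    exact (map_mul (Ideal.Quotient.mk I₁) c t).symm.trans
      (Ideal.Quotient.eq_zero_iff_mem.mpr (hmt c h1))
  · have h1 : RingHom.ker (Ideal.Quotient.factor (le_sup_left : I₁ ≤ I₁ ⊔ Ideal.span {t})) =
        (I₁ ⊔ Ideal.span {t}).map (Ideal.Quotient.mk I₁) := Ideal.Quotient.factor_ker _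
    refine h1.trans ?_
    rw [Ideal.map_sup, Ideal.map_quotient_self, bot_sup_eq, Ideal.map_span, Set.image_singleton]
  · exact subsingleton_H1_point f h (Spec.map ψ ≫ a) (Iso.refl _)
      ((IsPullback.of_hasPullback (pullback.snd f a) (Spec.map ψ)).paste_horiz
        (IsPullback.of_hasPullback f a))
  · rw [← hφa] at hT
    exact triv_baseChange f a (Spec.map φ) (pullback.snd f a) rfl L hT

/-- Over a local base, an invertible module pulled back from a finite locally free module is trivial. -/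
lemma triv_of_descends {R : CommRingCat.{u}} [IsLocalRing R] {P : Scheme.{u}} (p : P ⟶ Spec R)
    [Surjective p] (N : (Spec R).Modules) (hN : FlatMod.IsFinLocFree N) {L : P.Modules}
    (hL : PicF.IsInvertible L) (e : (Scheme.Modules.pullback p).obj N ≅ L) : Triv L := by
  have h1 : PicF.IsInvertible N :=
    K248.Basic.isInvertible_of_pullback p hN (K248.Basic.isInvertible_of_iso e.symm hL)
  obtain ⟨U, g, hx, hg⟩ := (isInvertible_iff N).mp h1 (closedPoint R)
  obtain rfl : U = ⊤ := (closedPoint_mem_iff (R := R) U).mp hx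
  exact ((triv_iff.mpr ⟨g, hg⟩).pullback p).of_iso e.symm

/-- The seesaw theorem when `H¹` of the structure sheaf of the fibres vanishes: the locus of triviality is open and
closed, and the module is pulled back from the base if this locus is everything. -/
theorem exists_clopen (f : X ⟶ S) [IsProper f] [Flat f] [LocallyOfFinitePresentation f]
    [GeometricallyIntegral f] (h : ∀ s : S, Subsingleton (CohIII.fiberH f (Coh.structureModule X) s 1))
    (L : X.Modules) (hL : PicF.IsInvertible L) :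
    IsClopen {z : S | Nonempty ((Scheme.Modules.pullback (f.fiberι z)).obj L ≅
      Coh.structureModule (f.fiber z))} ∧
    (∀ (R : CommRingCat.{u}) [IsLocalRing R] (a : Spec R ⟶ S),
      Triv ((Scheme.Modules.pullback (pullback.fst f a)).obj L) → Set.range a ⊆
      {z : S | Nonempty ((Scheme.Modules.pullback (f.fiberι z)).obj L ≅
        Coh.structureModule (f.fiber z))}) ∧
    ({z : S | Nonempty ((Scheme.Modules.pullback (f.fiberι z)).obj L ≅
      Coh.structureModule (f.fiber z))} = Set.univ →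
      ∃ N : S.Modules, PicF.IsInvertible N ∧ Nonempty ((Scheme.Modules.pullback f).obj N ≅ L)) := by
  obtain ⟨W, j, hj1, hj2, hj⟩ := Groth.Agent.S1431.result f
    (fun T g U => isIso_app (pullback.snd f g) U) L
    (CubeClosed.isFinLocFree_of_isInvertible hL)
  have key : ∀ (R : CommRingCat.{u}) [IsLocalRing R] (a : Spec R ⟶ S), (∃ g', g' ≫ j = a) ↔
      Triv ((Scheme.Modules.pullback (pullback.fst f a)).obj L) := by
    intro R _ a
    rw [hj]
    constructor
    · rintro ⟨N, hN, ⟨e⟩⟩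
      exact triv_of_descends (pullback.snd f a) N hN (isInvertible_pullback _ hL) e
    · rintro ⟨e⟩
      obtain ⟨i⟩ : Triv ((Scheme.Modules.pullback (pullback.snd f a)).obj
        (Coh.structureModule (Spec R))) := Triv.pullback _ ⟨Iso.refl _⟩
      exact ⟨Coh.structureModule _, CubeClosed.isFinLocFree_of_isInvertible
        isInvertible_structureModule, ⟨i ≪≫ e.symm⟩⟩
  have hopen : IsOpenImmersion j := by
    refine CubeOpen2.isOpenImmersion_of_lift j (fun z I₁ t ht htm hmt hg => ?_)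
    have hne : I₁ ≠ ⊤ := fun h0 => ht (h0 ▸ Submodule.mem_top)
    have : Nontrivial (S.presheaf.stalk z ⧸ I₁) := Ideal.Quotient.nontrivial_iff.mpr hne
    have hloc : IsLocalRing (CommRingCat.of (S.presheaf.stalk z ⧸ I₁)) :=
      IsLocalRing.of_surjective' (Ideal.Quotient.mk I₁) Ideal.Quotient.mk_surjective
    have hne2 : I₁ ⊔ Ideal.span {t} ≤ maximalIdeal (S.presheaf.stalk z) :=
      sup_le (le_maximalIdeal hne) ((Ideal.span_singleton_le_iff_mem _).mpr htm)
    have : Nontrivial (S.presheaf.stalk z ⧸ (I₁ ⊔ Ideal.span {t})) :=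
      Ideal.Quotient.nontrivial_iff.mpr fun h0 => (maximalIdeal.isMaximal _).ne_top
        (top_le_iff.mp (h0 ▸ hne2))
    have hloc' : IsLocalRing (CommRingCat.of (S.presheaf.stalk z ⧸ (I₁ ⊔ Ideal.span {t}))) :=
      IsLocalRing.of_surjective' (Ideal.Quotient.mk _) Ideal.Quotient.mk_surjective
    exact (key _ _).mpr (triv_of_quot f h L hL (S.presheaf.stalk z) (S.fromSpecStalk z) I₁ t ht htm
      hmt ((key _ _).mp hg))
  have hrange : Set.range j = {z : S | Nonempty
      ((Scheme.Modules.pullback (f.fiberι z)).obj L ≅ Coh.structureModule (f.fiber z))} := by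
    ext z
    have h1 := key _ (S.fromSpecResidueField z)
    constructor
    · rintro ⟨w, rfl⟩
      have h2 : Set.range (S.fromSpecResidueField (j w)) ⊆ Set.range j := by
        rw [Scheme.range_fromSpecResidueField]
        rintro _ rfl
        exact ⟨w, rfl⟩
      exact h1.mp ⟨IsOpenImmersion.lift j _ h2, IsOpenImmersion.lift_fac j _ h2⟩
    · intro hz
      obtain ⟨g', hg'⟩ := h1.mpr hz
      obtain ⟨pt⟩ : Nonempty (Spec (S.residueField z)) := inferInstance
      refine ⟨g' pt, ?_⟩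
      rw [← Scheme.Hom.comp_apply, hg', Scheme.fromSpecResidueField_apply]
  have hclosed := CubeClosed.isClosed_trivialLocus f L hL
  refine ⟨⟨hclosed, ?_⟩, ?_, ?_⟩
  · rw [← hrange]
    exact j.isOpenEmbedding.isOpen_range
  · intro R _ a ha
    obtain ⟨g', rfl⟩ := (key R a).mpr ha
    rw [← hrange]
    rintro _ ⟨t, rfl⟩
    exact ⟨g' t, by rw [Scheme.Hom.comp_apply]⟩
  · intro huniv
    have hsurj : Surjective j := ⟨Set.range_eq_univ.mp (hrange.trans huniv)⟩
    have hiso : IsIso j := isIso_of_surj j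
    obtain ⟨N, hN, ⟨e⟩⟩ := (hj S (𝟙 S)).mp ⟨inv j, IsIso.inv_hom_id j⟩
    let σ : X ⟶ pullback f (𝟙 S) := pullback.lift (𝟙 X) f (by simp)
    have h3 : (Scheme.Modules.pullback f).obj N ≅ L :=
      (Scheme.Modules.pullbackCongr (pullback.lift_snd (𝟙 X) f (by simp))).symm.app N ≪≫
        (Scheme.Modules.pullbackComp σ (pullback.snd f (𝟙 S))).symm.app N ≪≫
        (Scheme.Modules.pullback σ).mapIso e ≪≫
        (Scheme.Modules.pullbackComp σ (pullback.fst f (𝟙 S))).app L ≪≫
        (Scheme.Modules.pullbackCongr (pullback.lift_fst (𝟙 X) f (by simp))).app L ≪≫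
        (Scheme.Modules.pullbackId X).app L
    exact ⟨N, K248.Basic.isInvertible_of_pullback f hN (K248.Basic.isInvertible_of_iso h3.symm hL), ⟨h3⟩⟩

/-- The connected case. -/
theorem exists_descends [ConnectedSpace S] (f : X ⟶ S) [IsProper f] [Flat f]
    [LocallyOfFinitePresentation f] [GeometricallyIntegral f]
    (h : ∀ s : S, Subsingleton (CohIII.fiberH f (Coh.structureModule X) s 1))
    (L : X.Modules) (hL : PicF.IsInvertible L) (R : CommRingCat.{u}) [IsLocalRing R]
    (a : Spec R ⟶ S) (ha : Triv ((Scheme.Modules.pullback (pullback.fst f a)).obj L)) :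
    ∃ N : S.Modules, PicF.IsInvertible N ∧ Nonempty ((Scheme.Modules.pullback f).obj N ≅ L) := by
  obtain ⟨h1, h2, h3⟩ := exists_clopen f h L hL
  refine h3 ?_
  rcases isClopen_iff.mp h1 with h4 | h4
  · exfalso
    have h5 := h2 R a ha ⟨closedPoint R, rfl⟩
    rw [h4] at h5
    exact h5
  · exact h4

/-- The Picard group of a local ring is trivial. -/
theorem pic_spec_local (R : CommRingCat.{u}) [IsLocalRing R] (c : PicGrp.Pic (Spec R)) : c = 1 := by
  obtain ⟨N, h1, rfl⟩ := PicGrp.exists_mk c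
  obtain ⟨U, g, hx, hg⟩ := (isInvertible_iff N).mp h1 (closedPoint R)
  obtain rfl : U = ⊤ := (closedPoint_mem_iff (R := R) U).mp hx
  exact (PicGrp.mk_eq_one_iff h1).mpr (triv_iff.mpr ⟨g, hg⟩)

/-- Pullback of classes is injective if `O_S = f_* O_X`. -/
theorem pull_injective (f : X ⟶ S) (hf : ∀ U : S.Opens, IsIso (f.app U)) :
    Function.Injective (PicGrp.pull f) := by
  intro c d h
  obtain ⟨L, hL, rfl⟩ := PicGrp.exists_mk c
  obtain ⟨M, hM, rfl⟩ := PicGrp.exists_mk d
  rw [PicGrp.pull_mk, PicGrp.pull_mk, PicGrp.mk_eq_iff] at h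
  obtain ⟨e⟩ := h
  rw [PicGrp.mk_eq_iff]
  have h1 := K245.DescUnit.isIso_unit f hf (CubeClosed.isFinLocFree_of_isInvertible hL)
  have h2 := K245.DescUnit.isIso_unit f hf (CubeClosed.isFinLocFree_of_isInvertible hM)
  exact ⟨asIso ((Scheme.Modules.pullbackPushforwardAdjunction f).unit.app L) ≪≫
    (Scheme.Modules.pushforward f).mapIso e ≪≫
    (asIso ((Scheme.Modules.pullbackPushforwardAdjunction f).unit.app M)).symm⟩

/-- Vanishing of `H¹` on the fibres of a base change from a field. -/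
theorem fiberH_of_field {k : Type u} [Field k] {T Y : Scheme.{u}} (s : S ⟶ Spec (CommRingCat.of k))
    (t : T ⟶ Spec (CommRingCat.of k)) [QuasiCompact t] [QuasiSeparated t] {f : Y ⟶ S} {q : Y ⟶ T}
    (H : IsPullback q f t s) (h1 : Subsingleton (Coh.HH T (Coh.structureModule T) 1)) (z : S) :
    Subsingleton (CohIII.fiberH f (Coh.structureModule Y) z 1) := by
  let φ : CommRingCat.of k ⟶ CommRingCat.of (S.residueField z) :=
    Spec.preimage (S.fromSpecResidueField z ≫ s)
  have hφ : Spec.map φ = S.fromSpecResidueField z ≫ s := Spec.map_preimage _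
  let _ : Algebra k (S.residueField z) := φ.hom.toAlgebra
  let _ : T.Over (Spec (CommRingCat.of k)) := ⟨t⟩
  let _ : (f.fiber z).Over (Spec (CommRingCat.of (S.residueField z))) :=
    ⟨f.fiberToSpecResidueField z⟩
  have H1 : IsPullback (f.fiberι z) (f.fiberToSpecResidueField z) f (S.fromSpecResidueField z) :=
    IsPullback.of_hasPullback _ _
  have H2 : IsPullback (f.fiberι z ≫ q) ((f.fiber z) ↘ Spec (CommRingCat.of (S.residueField z)))
      (T ↘ Spec (CommRingCat.of k)) (Spec.map (CommRingCat.ofHom (algebraMap k (S.residueField z)))) := by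
    have h2 : Spec.map (CommRingCat.ofHom (algebraMap k (S.residueField z))) =
      S.fromSpecResidueField z ≫ s := hφ
    rw [h2]
    exact H1.paste_horiz H
  have hc : CompactSpace T := QuasiCompact.compactSpace_of_compactSpace t
  have hqs : QuasiSeparatedSpace T := quasiSeparatedSpace_of_quasiSeparated t
  have hq : Coh.IsQCoh (Coh.structureModule T) := Ega2.QCohLocal.isQCoh_structureModule T
  obtain ⟨e⟩ := Groth.Agent.S0034.result k (S.residueField z) T (f.fiber z) (f.fiberι z ≫ q) H2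
    (Coh.structureModule T) 1
  have h3 : Subsingleton (Coh.HH (f.fiber z)
    ((Scheme.Modules.pullback (f.fiberι z ≫ q)).obj (Coh.structureModule T)) 1) :=
    e.symm.toEquiv.subsingleton
  obtain ⟨i⟩ : Triv ((Scheme.Modules.pullback (f.fiberι z ≫ q)).obj (Coh.structureModule T)) :=
    Triv.pullback _ ⟨Iso.refl _⟩
  obtain ⟨i'⟩ : Triv ((Scheme.Modules.pullback (f.fiberι z)).obj (Coh.structureModule Y)) :=
    Triv.pullback _ ⟨Iso.refl _⟩
  exact Fga.HShift.subsingleton_of_iso (i ≪≫ i'.symm) 1 h3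

end K449.Seesaw1
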