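import Groth.Agent.PicF.K449.AbelPt
import Groth.Prelude.Def_AbDual
import Mathlib.AlgebraicGeometry.Sites.Fpqc
import Mathlib.AlgebraicGeometry.ZariskisMainTheorem

/-!
# The Abel map of a relative curve of positive genus is a monomorphism
-/

set_option autoImplicit false
set_option backward.isDefEq.respectTransparency false
universe u
open CategoryTheory CategoryTheory.Limits AlgebraicGeometry Opposite TopologicalSpace

namespace K449.AbelMono

open Groth.Agent
open Groth.Agent.Grpsch Groth.Agent.Grpsch.PicGrp Groth.Agent.Fga.JacSum Groth.Agent.Fga.RigGrp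
open Groth.Agent.Picfga Groth.Agent.Fdesc.LocGen

/-- Morphisms of schemes which agree on an fppf covering are equal. -/
theorem eq_of_fppf {Z Y : Scheme.{u}} (a b : Z ⟶ Y) {R : Presieve Z}
    (hR : R ∈ Scheme.fppfPrecoverage Z) (h : ∀ ⦃U : Scheme.{u}⦄ (u : U ⟶ Z), R u → u ≫ a = u ≫ b) :
    a = b := by
  have h1 : Sieve.generate R ∈ Scheme.fppfTopology Z := Precoverage.generate_mem_toGrothendieck hR
  have h2 : Presieve.IsSheaf Scheme.fppfTopology (yoneda.obj Y) :=
    GrothendieckTopology.Subcanonical.isSheaf_of_isRepresentable (yoneda.obj Y)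
  have h3 := h2.isSeparated _ h1
  refine h3.ext (t₁ := a) (t₂ := b) fun W w hw => ?_
  obtain ⟨V, g, u, hu, rfl⟩ := hw
  change (g ≫ u) ≫ a = (g ≫ u) ≫ b
  rw [Category.assoc, Category.assoc, h u hu]

section

variable {X S : Scheme.{u}} (f : X ⟶ S) [IsProper f] [Smooth f] [GeometricallyConnected f]
  (hdim : ∀ s : S, topologicalKrullDim ↥(f.fiber s) = 1)
  (hg : ∀ s : S, 1 ≤ CohIII.fiberRank f (Coh.structureModule X) 1 s)

include hdim hg

theorem eq_of_gcl_eq' [SmoothOfRelativeDimension 1 f] (T : Over S) (x y : Pt f T)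
    (h : gcl f x = gcl f y) : x = y := by
  apply Subtype.ext
  refine T.left.affineCover.hom_ext _ _ fun i => ?_
  let T' : Over S := Over.mk (T.left.affineCover.f i ≫ T.hom)
  let g : T' ⟶ T := Over.homMk (T.left.affineCover.f i) rfl
  have : IsAffine T'.left := inferInstanceAs (IsAffine (Spec _))
  have h1 : gcl f (x.comp g) = gcl f (y.comp g) := by
    rw [← pull_gcl, ← pull_gcl, h]
  exact congrArg Subtype.val (AbelPt.eq_of_gcl_eq f hdim hg T' (x.comp g) (y.comp g) h1)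

theorem mono_abel [SmoothOfRelativeDimension 1 f] (P : Over S)
    (φ : ∀ T : Over S, PicF.Cl (PicF.XT f T) → (T ⟶ P))
    (hP : AbDual.IsRelPicK Scheme.fppfPrecoverage f P φ)
    (LΔ : (PicF.XT f (Over.mk f)).Modules) (hLΔ : PicF.IsInvertible LΔ)
    (hΔ : ClSub.IsInverseOf LΔ (ClSub.idealMod (pullback.diagonal f).ker)) :
    Mono (φ (Over.mk f) (PicF.cl LΔ)).left := by
  refine ⟨fun {Z} a b hab => ?_⟩
  have hf : b ≫ f = a ≫ f := by
    have h1 := congr($hab ≫ P.hom)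
    rw [Category.assoc, Category.assoc, Over.w] at h1
    exact h1.symm
  let T : Over S := Over.mk (a ≫ f)
  let x : Pt f T := ⟨a, rfl⟩
  let y : Pt f T := ⟨b, hf⟩
  let gx : T ⟶ Over.mk f := Over.homMk a rfl
  let gy : T ⟶ Over.mk f := Over.homMk b hf
  let d : Pt f (Over.mk f) := ⟨𝟙 X, Category.id_comp _⟩
  have hx : d.comp gx = x := Subtype.ext (Category.comp_id _)
  have hy : d.comp gy = y := Subtype.ext (Category.comp_id _)
  have hd : mk LΔ hLΔ = (gcl f d)⁻¹ := by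
    have h2 : gcl f d = mk (ClSub.idealMod (pullback.diagonal f).ker)
        (Dix.IdealModCartier.isInvertible_idealMod (isEff_secGraph f d)) := rfl
    obtain ⟨e⟩ := hΔ
    rw [eq_inv_iff_mul_eq_one, h2, mk_mul_mk, mk_eq_one_iff]
    exact ⟨e⟩
  have hI : PicF.IsInvertibleCl (PicF.cl LΔ) := ⟨LΔ, rfl, hLΔ⟩
  have hIx : PicF.IsInvertibleCl (PicF.pullCl (PicF.XTmap f gx) (PicF.cl LΔ)) :=
    ⟨_, rfl, isInvertible_pullback _ hLΔ⟩
  have hIy : PicF.IsInvertibleCl (PicF.pullCl (PicF.XTmap f gy) (PicF.cl LΔ)) :=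
    ⟨_, rfl, isInvertible_pullback _ hLΔ⟩
  have h3 : φ T (PicF.pullCl (PicF.XTmap f gx) (PicF.cl LΔ)) =
      φ T (PicF.pullCl (PicF.XTmap f gy) (PicF.cl LΔ)) := by
    rw [hP.natural _ _ gx _ hI, hP.natural _ _ gy _ hI]
    ext : 1
    exact hab
  obtain ⟨R, hR, h4⟩ := hP.locallyInjective T _ _ hIx hIy h3
  refine eq_of_fppf a b hR fun U u hu => ?_
  obtain ⟨e⟩ := (cl_eq_iff _ _).1 (h4 u hu)
  have h5 : pull (PicF.XTmap f (AbDual.ovrHom T u)) (pull (PicF.XTmap f gx) (mk LΔ hLΔ)) =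
      pull (PicF.XTmap f (AbDual.ovrHom T u)) (pull (PicF.XTmap f gy) (mk LΔ hLΔ)) := by
    rw [pull_mk, pull_mk, pull_mk, pull_mk, mk_eq_iff]
    exact ⟨e⟩
  rw [hd, map_inv, map_inv, map_inv, map_inv, inv_inj, pull_gcl, pull_gcl, pull_gcl, pull_gcl,
    hx, hy] at h5
  have h6 := eq_of_gcl_eq' f hdim hg (AbDual.ovr T u) _ _ h5
  exact congrArg Subtype.val h6

theorem isClosedImmersion_abel (P : Over S)
    (φ : ∀ T : Over S, PicF.Cl (PicF.XT f T) → (T ⟶ P))
    (hP : AbDual.IsRelPicK Scheme.fppfPrecoverage f P φ) [IsSeparated P.hom]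
    (LΔ : (PicF.XT f (Over.mk f)).Modules) (hLΔ : PicF.IsInvertible LΔ)
    (hΔ : ClSub.IsInverseOf LΔ (ClSub.idealMod (pullback.diagonal f).ker)) :
    IsClosedImmersion (φ (Over.mk f) (PicF.cl LΔ)).left := by
  have h0 := AbelPt.smoothOfRelDim f hdim
  rw [IsClosedImmersion.iff_isProper_and_mono]
  refine ⟨?_, mono_abel f hdim hg P φ hP LΔ hLΔ hΔ⟩
  have h1 : IsProper ((φ (Over.mk f) (PicF.cl LΔ)).left ≫ P.hom) := by
    rw [Over.w]
    exact ‹IsProper f›
  exact IsProper.of_comp _ P.hom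

end

end K449.AbelMono
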