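import Groth.Agent.Fga.LineTors

/-!
# Čech 1-cocycles of a module with vanishing `H¹` are coboundaries
-/

set_option autoImplicit false
universe u
open CategoryTheory CategoryTheory.Limits AlgebraicGeometry Opposite TopologicalSpace

namespace K449.Cech1

open Groth.Agent.Fga.Torsor Groth.Agent.Fga.LineTors Groth.Agent.Fdesc.LocGen

variable {X : Scheme.{u}}

/-- The presheaf of indices `j` with `U ≤ V j`. -/
def idxPre {J : Type u} (V : J → X.Opens) : (Opens X)ᵒᵖ ⥤ Type u where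
  obj U := {j : J // U.unop ≤ V j}
  map f := TypeCat.ofHom fun j => ⟨j.1, f.unop.le.trans j.2⟩

/-- Čech 1-cocycles of a module with vanishing `H¹` are coboundaries. -/
theorem exists_coboundary (F : X.Modules) (h1 : Subsingleton (Coh.HH X F 1))
    {J : Type u} (V : J → X.Opens) (hV : ⨆ j, V j = ⊤)
    (c : ∀ j l, Γ(F, V j ⊓ V l))
    (hc : ∀ (j l m : J) (U : X.Opens) (hj : U ≤ V j) (hl : U ≤ V l) (hm : U ≤ V m),
      res F (le_inf hj hl) (c j l) + res F (le_inf hl hm) (c l m) = res F (le_inf hj hm) (c j m)) :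
    ∃ b : ∀ j, Γ(F, V j), ∀ j l, c j l = res F inf_le_left (b j) - res F inf_le_right (b l) := by
  let D : Diff (idxPre V) (Coh.toAb F).obj :=
    { d := fun {U} a b => res F (le_inf a.2 b.2) (c a.1 b.1)
      d_add := fun {U} a b c' => hc a.1 b.1 c'.1 U.unop a.2 b.2 c'.2
      map_d := fun {U W} f a b => res_res (M := F) _ _ _ }
  have hT : LocNonempty (Opens.grothendieckTopology X) (idxPre V) ⊤ := by
    rw [locNonempty_iff]
    intro x
    have hx : x ∈ ⨆ j, V j := by rw [hV]; trivial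
    obtain ⟨j, hj⟩ := Opens.mem_iSup.1 hx
    exact ⟨V j, hj, ⟨⟨j, le_rfl⟩⟩⟩
  obtain ⟨P⟩ := D.exists_potential_of_H1 isTerminalTop (Coh.toAb F) h1 hT
  refine ⟨fun j => P.φ (U := op (V j)) ⟨j, le_rfl⟩, fun j l => ?_⟩
  have h2 := P.sub_φ (U := op (V j ⊓ V l)) ⟨j, inf_le_left⟩ ⟨l, inf_le_right⟩
  have h3 := P.map_φ (homOfLE (inf_le_left : V j ⊓ V l ≤ V j)).op ⟨j, le_rfl⟩
  have h4 := P.map_φ (homOfLE (inf_le_right : V j ⊓ V l ≤ V l)).op ⟨l, le_rfl⟩
  have h5 : c j l = res F (le_inf inf_le_left inf_le_right) (c j l) := (res_refl _ _).symm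
  rw [h5]
  refine h2.symm.trans ?_
  exact congrArg₂ (· - ·) h3.symm h4.symm

end K449.Cech1
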