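import Groth.Agent.PicF.K449.Cech1
import Groth.Agent.Grpsch.CubeDeform

/-!
# Lifting trivializations of invertible modules along a small extension, `H¹` of the closed fibre zero
-/

set_option autoImplicit false
universe u
open CategoryTheory CategoryTheory.Limits AlgebraicGeometry Opposite TopologicalSpace IsLocalRing

namespace K449.Deform1

open Groth.Agent Groth.Agent.Fdesc Groth.Agent.Fdesc.LocGen Groth.Agent.Grpsch
open CubeSec CubeLift CubeDeform

variable {S P S' P' S₀ P₀ : Scheme.{u}}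

/-- The kernel of restriction to the closed fibre over an affine open. -/
lemma ker_app [IsAffine S] {p : P ⟶ S} {g₀ : S₀ ⟶ S} [IsClosedImmersion g₀]
    {k : P₀ ⟶ P} {p₀ : P₀ ⟶ S₀} (HP₀ : IsPullback k p₀ p g₀) (I : Ideal Γ(S, ⊤))
    (hg₀ : RingHom.ker g₀.appTop.hom = I) {W : P.Opens} (hW : IsAffineOpen W) (a : Γ(P, W)) :
    (k.app W).hom a = 0 ↔ toSec p W a ∈ I • (⊤ : Submodule Γ(S, ⊤) (Sec p W)) := by
  obtain ⟨-, -, h3⟩ := Flat2D.ThickRed.app_of_isPullback HP₀ (W := ⊤) (isAffineOpen_top S) hW le_top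
  have h4 : RingHom.ker (g₀.app ⊤).hom = I := hg₀
  rw [← RingHom.mem_ker, h3, h4]
  have h5 : I • (⊤ : Submodule Γ(S, ⊤) (Sec p W)) =
      (I.map (algebraMap Γ(S, ⊤) (Sec p W))).restrictScalars Γ(S, ⊤) := Ideal.smul_top_eq_map I
  rw [h5]
  rfl

/-- Naturality of `app` and restriction. -/
lemma app_ores {X Y : Scheme.{u}} (f : X ⟶ Y) {V W : Y.Opens} (h : W ≤ V) {U : X.Opens}
    (hU : U ≤ f ⁻¹ᵁ W) (x : Γ(Y, V)) :
    ores (hU.trans (f.preimage_mono h)) ((f.app V).hom x) =
      ores hU ((f.app W).hom (ores h x)) := by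
  have h1 := congr(($(f.naturality (homOfLE h).op)).hom x)
  have h2 : (f.app W).hom (ores h x) = ores (f.preimage_mono h) ((f.app V).hom x) := h1
  rw [h2]
  exact (res_res (M := Coh.structureModule X) (f.preimage_mono h) hU (ofFun ((f.app V).hom x))).symm

variable [IsAffine S] [IsLocalRing Γ(S, ⊤)]

/-- Lifting trivializations of invertible modules along a small extension. -/
theorem deform {p : P ⟶ S} [Flat p] [IsSeparated p] {g : S' ⟶ S} [IsClosedImmersion g]
    [Surjective g] {i : P' ⟶ P} {p' : P' ⟶ S'} (HP : IsPullback i p' p g) (ε : Γ(S, ⊤))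
    (hε : ∀ a : Γ(S, ⊤), a * ε = 0 ↔ a ∈ maximalIdeal Γ(S, ⊤))
    (hεm : ε ∈ maximalIdeal Γ(S, ⊤)) (hg : RingHom.ker g.appTop.hom = Ideal.span {ε})
    {g₀ : S₀ ⟶ S} [IsClosedImmersion g₀]
    (hg₀ : RingHom.ker g₀.appTop.hom = maximalIdeal Γ(S, ⊤))
    {k : P₀ ⟶ P} {p₀ : P₀ ⟶ S₀} (HP₀ : IsPullback k p₀ p g₀)
    (h1 : Subsingleton (Coh.HH P₀ (Coh.structureModule P₀) 1))
    {L : P.Modules} (hL : PicF.IsInvertible L)
    {ρ : Γ((Scheme.Modules.pullback i).obj L, ⊤)} (hρ : IsGen ρ) :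
    ∃ m : Γ(L, ⊤), IsGen m := by
  have hεε : ε * ε = 0 := (hε ε).mpr hεm
  have hclos : IsClosedImmersion i := MorphismProperty.of_isPullback HP.flip ‹IsClosedImmersion g›
  have hsurj : Surjective i := MorphismProperty.of_isPullback HP.flip ‹Surjective g›
  have hclos₀ : IsClosedImmersion k := MorphismProperty.of_isPullback HP₀.flip ‹IsClosedImmersion g₀›
  have hPs : P.IsSeparated := ⟨by rw [← terminal.comp_from p]; infer_instance⟩
  let V : P.affineOpens → P.Opens := fun i => i.1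
  have hV : ∀ i, IsAffineOpen (V i) := fun i => i.2
  have hVV : ∀ i k, IsAffineOpen (V i ⊓ V k) := fun i k => (hV i).inf (hV k)
  have hVtop : ⨆ i, V i = ⊤ := iSup_affineOpens_eq_top P
  have hflat : ∀ {W : P.Opens}, IsAffineOpen W → Module.Flat Γ(S, ⊤) (Sec p W) :=
    fun hW => flat_sec p hW
  -- local generators
  choose σ hσρ hσ using fun a => exists_lift i hL (hV a) (hρ.res (le_top : i ⁻¹ᵁ V a ≤ ⊤))
  have hc' : ∀ a b : P.affineOpens, ∃ c : Sec p (V a ⊓ V b),
      LocGen.res L inf_le_left (σ a) = act p (1 + ε • c) (LocGen.res L inf_le_right (σ b)) := by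
    intro a b
    refine exists_ratio i HP ε hg (hVV a b) ((hσ b).res _) ?_
    rw [← res_pullSec, ← res_pullSec, hσρ, hσρ, LocGen.res_res, LocGen.res_res]
  choose c hc using hc'
  -- the cocycle condition
  have hcoc : ∀ a b d : P.affineOpens,
      ε • (CubeSec.res p (le_inf (inf_le_left.trans inf_le_left) (inf_le_left.trans inf_le_right) :
          V a ⊓ V b ⊓ V d ≤ V a ⊓ V b) (c a b) +
        CubeSec.res p (le_inf (inf_le_left.trans inf_le_right) inf_le_right :
          V a ⊓ V b ⊓ V d ≤ V b ⊓ V d) (c b d) -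
        CubeSec.res p (le_inf (inf_le_left.trans inf_le_left) inf_le_right :
          V a ⊓ V b ⊓ V d ≤ V a ⊓ V d) (c a d)) = 0 := by
    intro a b d
    have e1 := congr(LocGen.res L (le_inf (inf_le_left.trans inf_le_left)
      (inf_le_left.trans inf_le_right) : V a ⊓ V b ⊓ V d ≤ V a ⊓ V b) $(hc a b))
    have e2 := congr(LocGen.res L (le_inf (inf_le_left.trans inf_le_right) inf_le_right :
          V a ⊓ V b ⊓ V d ≤ V b ⊓ V d) $(hc b d))
    have e3 := congr(LocGen.res L (le_inf (inf_le_left.trans inf_le_left) inf_le_right :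
          V a ⊓ V b ⊓ V d ≤ V a ⊓ V d) $(hc a d))
    rw [LocGen.res_res, res_act, LocGen.res_res, map_add, map_one, map_smul] at e1 e2 e3
    rw [e2, e3, ← act_mul] at e1
    have e4 := act_ext ((hσ d).res _) e1
    have he : algebraMap Γ(S, ⊤) (Sec p (V a ⊓ V b ⊓ V d)) ε *
      algebraMap Γ(S, ⊤) (Sec p (V a ⊓ V b ⊓ V d)) ε = 0 := by
      rw [← map_mul, hεε, map_zero]
    simp only [Algebra.smul_def] at e4 ⊢
    linear_combination (-1 : Sec p (V a ⊓ V b ⊓ V d)) * e4 - (CubeSec.res p _ (c a b)) * (CubeSec.res p _ (c b d)) * he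
  -- the cocycle on the closed fibre
  obtain ⟨b', hb'⟩ := Cech1.exists_coboundary (Coh.structureModule P₀) h1
    (fun a : P.affineOpens => k ⁻¹ᵁ V a)
    (by rw [← Scheme.Hom.preimage_iSup, hVtop]; rfl)
    (fun a b => ofFun ((k.app (V a ⊓ V b)).hom ((toSec p (V a ⊓ V b)).symm (c a b)))) (by
      intro a b d U ha hb hd
      have hW : IsAffineOpen (V a ⊓ V b ⊓ V d) := (hVV a b).inf (hV d)
      have hU : U ≤ k ⁻¹ᵁ (V a ⊓ V b ⊓ V d) := le_inf (le_inf ha hb) hd
      have := hflat hW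
      have e1 := (CubeAlg.smul_eq_zero_iff ε hε _).mp (hcoc a b d)
      have e2 := (ker_app HP₀ _ hg₀ hW ((toSec p (V a ⊓ V b ⊓ V d)).symm _)).mpr
        (by rw [RingEquiv.apply_symm_apply]; exact e1)
      rw [map_sub, map_add, map_sub, map_add, sub_eq_zero] at e2
      rw [res_ofFun, res_ofFun, res_ofFun, ← map_add]
      congr 1
      have e3 := app_ores k (le_inf (inf_le_left.trans inf_le_left) (inf_le_left.trans inf_le_right) :
          V a ⊓ V b ⊓ V d ≤ V a ⊓ V b) hU ((toSec p (V a ⊓ V b)).symm (c a b))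
      have e4 := app_ores k (le_inf (inf_le_left.trans inf_le_right) inf_le_right :
          V a ⊓ V b ⊓ V d ≤ V b ⊓ V d) hU ((toSec p (V b ⊓ V d)).symm (c b d))
      have e5 := app_ores k (le_inf (inf_le_left.trans inf_le_left) inf_le_right :
          V a ⊓ V b ⊓ V d ≤ V a ⊓ V d) hU ((toSec p (V a ⊓ V d)).symm (c a d))
      refine (congrArg₂ (· + ·) e3 e4).trans (Eq.trans ?_ e5.symm)
      rw [← map_add]
      exact congrArg _ e2)
  -- lift the cochain
  have hsurj' : ∀ a, Function.Surjective (k.app (V a)).hom := fun a => k.app_surjective _ (hV a)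
  choose b₀ hb₀ using fun a => hsurj' a (ofFun.symm (b' a))
  let b : ∀ a, Sec p (V a) := fun a => toSec p (V a) (b₀ a)
  have hb : ∀ a d, ε • (c a d - (CubeSec.res p inf_le_left (b a) -
      CubeSec.res p inf_le_right (b d))) = 0 := by
    intro a d
    have := hflat (hVV a d)
    rw [CubeAlg.smul_eq_zero_iff ε hε]
    have e1 := (ker_app HP₀ _ hg₀ (hVV a d) ((toSec p (V a ⊓ V d)).symm (c a d - (CubeSec.res p inf_le_left (b a) -
      CubeSec.res p inf_le_right (b d))))).mp ?_
    · rwa [RingEquiv.apply_symm_apply] at e1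
    · rw [map_sub, map_sub, map_sub, map_sub, sub_eq_zero]
      have e2 := congrArg ofFun.symm (hb' a d)
      rw [map_sub, AddEquiv.symm_apply_apply] at e2
      refine e2.trans ?_
      have e3 : ores (k.preimage_mono (inf_le_left : V a ⊓ V d ≤ V a)) (ofFun.symm (b' a)) =
        (k.app (V a ⊓ V d)).hom ((toSec p (V a ⊓ V d)).symm (CubeSec.res p inf_le_left (b a))) := by
        rw [← hb₀]
        exact (congr(($(k.naturality (homOfLE (inf_le_left : V a ⊓ V d ≤ V a)).op)).hom (b₀ a))).symm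
      have e4 : ores (k.preimage_mono (inf_le_right : V a ⊓ V d ≤ V d)) (ofFun.symm (b' d)) =
        (k.app (V a ⊓ V d)).hom ((toSec p (V a ⊓ V d)).symm (CubeSec.res p inf_le_right (b d))) := by
        rw [← hb₀]
        exact (congr(($(k.naturality (homOfLE (inf_le_right : V a ⊓ V d ≤ V d)).op)).hom (b₀ d))).symm
      exact congrArg₂ (· - ·) e3 e4
  -- glue
  have hgen : ∀ j, IsGen (act p (1 - ε • b j) (σ j)) := by
    intro j
    refine isGen_act (hσ j) ?_
    rw [sub_eq_add_neg, ← smul_neg]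
    exact isUnit_one_add hεε _
  have hkey : ∀ j l, LocGen.res L (inf_le_left : V j ⊓ V l ≤ V j) (act p (1 - ε • b j) (σ j)) =
      LocGen.res L (inf_le_right : V j ⊓ V l ≤ V l) (act p (1 - ε • b l) (σ l)) := by
    intro j l
    have h1 := hc j l
    have h2 := hb j l
    rw [res_act, res_act, h1, ← act_mul]
    congr 1
    rw [map_sub, map_sub, map_one, map_one, map_smul, map_smul]
    simp only [Algebra.smul_def] at h2 ⊢
    have he : algebraMap Γ(S, ⊤) (Sec p (V j ⊓ V l)) ε *
      algebraMap Γ(S, ⊤) (Sec p (V j ⊓ V l)) ε = 0 := by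
      rw [← map_mul, hεε, map_zero]
    linear_combination h2 - (CubeSec.res p inf_le_left (b j) * c j l) * he
  obtain ⟨n, hn⟩ := res_glue L V (fun j => le_top) hVtop.ge (fun j => act p (1 - ε • b j) (σ j)) hkey
  exact ⟨n, IsGen.of_cover V (fun j => le_top) hVtop.ge fun j => by rw [hn j]; exact hgen j⟩

end K449.Deform1
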