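import Groth.Agent.PicF.K449.Seesaw1
import Groth.Agent.S1697
import Groth.Agent.S10960
import Groth.Agent.S0023
import Groth.Agent.Sga67.TwistOver
import Groth.Agent.Sga67.PushFlat
import Groth.Agent.Ega3A.PChart
import Groth.Agent.Ega3B.ProjProper
import Groth.Agent.Lefpen.H717.ProjIrr

/-!
# The Picard group of projective space over a connected scheme
-/

set_option autoImplicit false
universe u
open CategoryTheory CategoryTheory.Limits AlgebraicGeometry Opposite TopologicalSpace IsLocalRing

namespace K449.ProjPic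

open Groth.Agent Groth.Agent.Fdesc Groth.Agent.Fdesc.LocGen Groth.Agent.Grpsch
open Groth.Agent.Grpsch.CubeData PicGrp

/-- Vanishing of `H¹(fibre, O)` from any model of the fibre. -/
theorem fiberH_of_square {X S Y₀ : Scheme.{u}} (f : X ⟶ S) (z : S) (c : Y₀ ⟶ X)
    (q : Y₀ ⟶ Spec (S.residueField z)) [QuasiCompact q] [QuasiSeparated q]
    (H : IsPullback c q f (S.fromSpecResidueField z))
    (h1 : Subsingleton (Coh.HH Y₀ (Coh.structureModule Y₀) 1)) :
    Subsingleton (CohIII.fiberH f (Coh.structureModule X) z 1) := by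
  let K := S.residueField z
  let _ : Y₀.Over (Spec (CommRingCat.of K)) := ⟨q⟩
  let _ : (f.fiber z).Over (Spec (CommRingCat.of K)) := ⟨f.fiberToSpecResidueField z⟩
  have H1 : IsPullback (f.fiberι z) (f.fiberToSpecResidueField z) f (S.fromSpecResidueField z) :=
    IsPullback.of_hasPullback _ _
  let e : f.fiber z ⟶ Y₀ := H.lift (f.fiberι z) (f.fiberToSpecResidueField z) H1.w
  have he1 : e ≫ c = f.fiberι z := H.lift_fst _ _ _
  have he2 : e ≫ q = f.fiberToSpecResidueField z := H.lift_snd _ _ _
  have H2 : IsPullback e (f.fiberToSpecResidueField z) q (𝟙 _) := by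
    refine IsPullback.of_right ?_ (by rw [he2, Category.comp_id]) H
    rw [he1, Category.id_comp]
    exact H1
  have H3 : IsPullback e ((f.fiber z) ↘ Spec (CommRingCat.of K)) (Y₀ ↘ Spec (CommRingCat.of K))
      (Spec.map (CommRingCat.ofHom (algebraMap K K))) := by
    have h2 : Spec.map (CommRingCat.ofHom (algebraMap K K)) = 𝟙 _ := Spec.map_id _
    rw [h2]
    exact H2
  have hc : CompactSpace Y₀ := QuasiCompact.compactSpace_of_compactSpace q
  have hqs : QuasiSeparatedSpace Y₀ := quasiSeparatedSpace_of_quasiSeparated q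
  have hq : Coh.IsQCoh (Coh.structureModule Y₀) := Ega2.QCohLocal.isQCoh_structureModule Y₀
  obtain ⟨E⟩ := Groth.Agent.S0034.result K K Y₀ (f.fiber z) e H3 (Coh.structureModule Y₀) 1
  have h3 : Subsingleton (Coh.HH (f.fiber z)
    ((Scheme.Modules.pullback e).obj (Coh.structureModule Y₀)) 1) :=
    E.symm.toEquiv.subsingleton
  obtain ⟨i⟩ : Triv ((Scheme.Modules.pullback e).obj (Coh.structureModule Y₀)) :=
    Triv.pullback _ ⟨Iso.refl _⟩
  obtain ⟨i'⟩ : Triv ((Scheme.Modules.pullback (f.fiberι z)).obj (Coh.structureModule X)) :=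
    Triv.pullback _ ⟨Iso.refl _⟩
  exact Fga.HShift.subsingleton_of_iso (i ≪≫ i'.symm) 1 h3

section

variable (r : ℕ) (S : Scheme.{u})

theorem isProper_toBase : IsProper (CohB1.ProjSpaceOver.toBase r S) :=
  Ega3B.ProjProper.isProper_toBase r S

theorem flat_toBase : Flat (CohB1.ProjSpaceOver.toBase r S) := by
  have h := Sga67.PushFlat.flat_toSpec.{u} r (ULift.{u} ℤ)
  exact MorphismProperty.pullback_snd (P := @Flat) _ _ h

theorem geometricallyIntegral_toSpec (K : Type u) [CommRing K] :
    GeometricallyIntegral (CohB1.ProjSpace.toSpec r K) := by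
  refine ⟨?_⟩
  intro κ _ g Z a b hZ
  obtain ⟨φ, rfl⟩ := Spec.map_surjective g
  have h := Groth.Agent.CohqB.ProjBC.isPullback_pmap φ.hom r
  have h1 : IsIntegral (CohB1.ProjSpace r κ) := inferInstance
  have h2 : Nonempty Z := ⟨(h.isoIsPullback _ _ hZ).hom (Classical.arbitrary _)⟩
  exact isIntegral_of_isOpenImmersion (hZ.isoIsPullback _ _ h).hom

theorem geometricallyIntegral_toBase : GeometricallyIntegral (CohB1.ProjSpaceOver.toBase r S) := by
  have h := geometricallyIntegral_toSpec.{u} r (ULift.{u} ℤ)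
  exact MorphismProperty.pullback_snd (P := @GeometricallyIntegral) _ _ h

theorem lfp_toBase : LocallyOfFinitePresentation (CohB1.ProjSpaceOver.toBase r S) := by
  have h1 : IsProper (CohB1.ProjSpace.toSpec r (ULift.{u} ℤ)) := Ega3B.ProjProper.isProper_toSpec r _
  have : IsNoetherianRing (ULift.{u} ℤ) := isNoetherianRing_of_ringEquiv ℤ (ULift.ringEquiv (R := ℤ)).symm
  have h2 : LocallyOfFinitePresentation (CohB1.ProjSpace.toSpec r (ULift.{u} ℤ)) :=
    LocallyOfFinitePresentation.iff_locallyOfFiniteType.mpr inferInstance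
  exact MorphismProperty.pullback_snd (P := @LocallyOfFinitePresentation) _ _ h2

theorem fiberH_toBase (z : S) : Subsingleton (CohIII.fiberH (CohB1.ProjSpaceOver.toBase r S)
    (Coh.structureModule _) z 1) := by
  have h1 : IsProper (CohB1.ProjSpace.toSpec r (S.residueField z)) :=
    Ega3B.ProjProper.isProper_toSpec r _
  exact fiberH_of_square (CohB1.ProjSpaceOver.toBase r S) z
    (Ega3A.PChart.chart r (A := S.residueField z) (S.fromSpecResidueField z))
    (CohB1.ProjSpace.toSpec r (S.residueField z)) (Ega3A.PChart.isPullback_chart r _)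
    (Groth.Agent.S0023.result r (S.residueField z) 1 one_pos)

/-- The class of `O(d)`. -/
noncomputable def tw (d : ℤ) : Pic (CohB1.ProjSpaceOver r S) :=
  mk (Twist.twistOver r S d) (Ega3B.ProjFrame.isInvertible_twistOver r d)

theorem tw_add (a b : ℤ) : tw r S (a + b) = tw r S a * tw r S b := by
  rw [tw, tw, tw, mk_mul_mk, mk_eq_iff]
  exact ⟨(Sga67.TwistOver.nonempty_twistOver_mul r S a b).some.symm⟩

theorem tw_zero : tw r S 0 = 1 :=
  (mk_eq_one_iff _).mpr (Sga67.TwistOver.nonempty_twistOver_zero r S)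

theorem tw_neg (a : ℤ) : tw r S (-a) = (tw r S a)⁻¹ := by
  rw [eq_inv_iff_mul_eq_one, ← tw_add, neg_add_cancel, tw_zero]

variable {r S}

theorem pull_chart_tw {K : Type u} [Field K] (h : Spec (CommRingCat.of K) ⟶ S) (d : ℤ) :
    ∃ hd : PicF.IsInvertible (Twist.twistProjSpace r K d),
      pull (Ega3A.PChart.chart r h) (tw r S d) = mk (Twist.twistProjSpace r K d) hd := by
  refine ⟨Ega3B.ProjFrame.isInvertible_twistProjSpace r K d, ?_⟩
  rw [tw, pull_mk, mk_eq_iff]
  exact ⟨Ega3A.PChart.chartTwistIso r h d⟩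

/-- Every class on `P^r_S`, `S` connected, is a twist of the pullback of a class. -/
theorem exists_eq [ConnectedSpace S] (c : Pic (CohB1.ProjSpaceOver r S)) :
    ∃ (l : Pic S) (d : ℤ), c = pull (CohB1.ProjSpaceOver.toBase r S) l * tw r S d := by
  have := isProper_toBase r S
  have := flat_toBase r S
  have := lfp_toBase r S
  have := geometricallyIntegral_toBase r S
  obtain ⟨z⟩ : Nonempty S := inferInstance
  let h := S.fromSpecResidueField z
  let ch := Ega3A.PChart.chart r (A := S.residueField z) h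
  obtain ⟨N, hN, hc⟩ := exists_mk (pull ch c)
  obtain ⟨d, ⟨e⟩⟩ := Groth.Agent.S1697.result (S.residueField z) r N hN
  obtain ⟨hd, hd'⟩ := pull_chart_tw (r := r) (K := S.residueField z) h d
  have h1 : pull ch (c * (tw r S d)⁻¹) = 1 := by
    rw [map_mul, map_inv, hc]
    erw [hd']
    rw [mul_inv_eq_one, mk_eq_iff]
    exact ⟨e⟩
  obtain ⟨L, hL, hcL⟩ := exists_mk (c * (tw r S d)⁻¹)
  have H := Ega3A.PChart.isPullback_chart r (A := S.residueField z) h
  have h2 : Triv ((Scheme.Modules.pullback (pullback.fst (CohB1.ProjSpaceOver.toBase r S) h)).obj L) := by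
    rw [Triv, ← mk_eq_one_iff (isInvertible_pullback _ hL), ← pull_mk _ hL, ← hcL]
    have h3 : pullback.fst (CohB1.ProjSpaceOver.toBase r S) h =
        H.lift (pullback.fst _ _) (pullback.snd _ _) pullback.condition ≫ ch :=
      (H.lift_fst _ _ _).symm
    rw [h3]
    exact (pull_comp _ ch _).trans (by rw [h1, map_one])
  obtain ⟨M, hM, ⟨e'⟩⟩ := Seesaw1.exists_descends (CohB1.ProjSpaceOver.toBase r S)
    (fiberH_toBase r S) L hL (S.residueField z) h h2
  refine ⟨mk M hM, d, ?_⟩
  rw [← mul_inv_eq_iff_eq_mul, hcL, pull_mk, mk_eq_iff]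
  exact ⟨e'.symm⟩

/-- Uniqueness. -/
theorem eq_of_eq [Nonempty S] (hr : 1 ≤ r) {l l' : Pic S} {d d' : ℤ}
    (h : pull (CohB1.ProjSpaceOver.toBase r S) l * tw r S d =
      pull (CohB1.ProjSpaceOver.toBase r S) l' * tw r S d') : d = d' ∧ l = l' := by
  have := isProper_toBase r S
  have := flat_toBase r S
  have := lfp_toBase r S
  have := geometricallyIntegral_toBase r S
  obtain ⟨z⟩ : Nonempty S := inferInstance
  let g := S.fromSpecResidueField z
  let ch := Ega3A.PChart.chart r (A := S.residueField z) g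
  have h0 : ∀ l : Pic S, pull ch (pull (CohB1.ProjSpaceOver.toBase r S) l) = 1 := by
    intro l
    rw [← pull_comp, Ega3A.PChart.chart_toBase, pull_comp, Seesaw1.pic_spec_local _ (pull g l), map_one]
  have h1 := congrArg (pull ch) h
  rw [map_mul, map_mul, h0, h0, one_mul, one_mul] at h1
  obtain ⟨hd, hd1⟩ := pull_chart_tw (r := r) (K := S.residueField z) g d
  obtain ⟨hd', hd1'⟩ := pull_chart_tw (r := r) (K := S.residueField z) g d'
  have h2 := (hd1.symm.trans h1).trans hd1'
  rw [mk_eq_iff] at h2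
  obtain ⟨e⟩ := h2
  have hdd : d = d' := Groth.Agent.S10960.eq_of_iso (S.residueField z) r hr e
  subst hdd
  exact ⟨rfl, Seesaw1.pull_injective _ (fun U => isIso_app _ U) (mul_right_cancel h)⟩

end

end K449.ProjPic
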